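import Cfsg.Agent.H341.ThreeList_m3
import Cfsg.Agent.H270.StrP.ReeFix
import Cfsg.Agent.FastGrp
import Cfsg.Agent.Prune
set_option linter.all false

section
prune_inst 0x7f00000000000000000000000000000000000000000000000000000000000000000000000000000000000000000000000000000000000000000000000000000000000000000000000000000000000000003fffffffffffffffffffffffffffbeffbdffffffff

-- part: H975/FieldDef
section
set_option linter.all false

/-!
# Field automorphisms of order `p` of the groups of Lie type with cyclic Sylow `p`-subgroups (S2120, task H9-FR)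

`FieldFix p g q Y` : `Y` is the group with the name `g q` (names of `OrdDiv`), every outer automorphism `x` of order `p` of
`Y` (if the Sylow `p`-subgroups of `Y` are cyclic and not trivial) has `q = q₀ ^ p` and the fixed points of `x` have a
simple normal subgroup `N` with the name `g q₀` (or `N` is one of the four derived subgroups `Sp_4(2)'`, `G_2(2)'`,
`²G_2(3)'`, `²F_4(2)'`, given by its order), and nothing fixed by `x` centralises `N`.
-/

set_option autoImplicit false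

namespace Cfsg.Agent.H975.FieldDef

open Cfsg Subgroup Cfsg.Agent.OrdDiv

/-- the groups over the smallest field which are not simple, by the order of their derived subgroup -/
def Small (g : Grp) (n : ℕ) : Prop :=
  (g = .psp 2 2 ∧ n = 360) ∨ (g = .g2 2 ∧ n = 6048) ∨ (g = .ree 3 ∧ n = 504) ∨ (g = .tf4 2 ∧ n = 17971200)

/-- the sixteen families -/
inductive IsFam : (ℕ → Grp) → Prop
  | psl (n : ℕ) : IsFam (.psl n)
  | psp (m : ℕ) : IsFam (.psp m)
  | psu (n : ℕ) : IsFam (.psu n)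
  | oodd (m : ℕ) : IsFam (.oodd m)
  | oplus (m : ℕ) : IsFam (.oplus m)
  | ominus (m : ℕ) : IsFam (.ominus m)
  | g2 : IsFam .g2
  | f4 : IsFam .f4
  | e6 : IsFam .e6
  | e7 : IsFam .e7
  | e8 : IsFam .e8
  | te6 : IsFam .te6
  | td4 : IsFam .td4
  | sz : IsFam .sz
  | ree : IsFam .ree
  | tf4 : IsFam .tf4

/-- **The outer automorphisms of order `p` of the group `Y` with the name `g q`.** -/
def FieldFix (p : ℕ) (g : ℕ → Grp) (q : ℕ) (Y : Type*) [Group Y] : Prop :=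
  ∀ x : MulAut Y, orderOf x = p → (¬ ∃ y, x = MulAut.conj y) → p ∣ Nat.card Y →
    (∀ P : Sylow p Y, IsCyclic ↥(P : Subgroup Y)) →
    ∃ (q₀ : ℕ) (N : Subgroup Y), q = q₀ ^ p ∧ (∀ y ∈ N, x y = y) ∧
      (∀ y, x y = y → y ∈ normalizer (N : Set Y)) ∧ IsSimpleGroup ↥N ∧ (¬ IsMulCommutative ↥N) ∧
      (∀ y, x y = y → y ∈ centralizer (N : Set Y) → y = 1) ∧
      (Real (g q₀) ↥N ∨ Small (g q₀) (Nat.card ↥N))

end Cfsg.Agent.H975.FieldDef
end

-- part: H270/StrP/SzReeFF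
section
set_option linter.all false
open scoped Cfsg.Agent.FastGrp

/-!
# `FieldFix` (interface of helper975) for the Suzuki and the small Ree groups (helper270, task 705)

* `coset_conj` : outer automorphisms of order `p` in the coset of `φ` are conjugate to `φ` (cyclic Sylow `p`-subgroups);
* `fieldFix_sz` (exception `p = 5`, `q = 32`), `fieldFix_ree`.
-/

set_option autoImplicit false

namespace Cfsg.Agent.H270.StrP

open scoped Pointwise
open Cfsg Subgroup Cfsg.Agent.H818.StrP Cfsg.Agent.H967.CopMat Cfsg.Agent.OrdDiv Cfsg.Agent.H975.FieldDef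

/-- an automorphism of order `p` in the coset `Inn Y φ` is conjugate to `φ` -/
theorem coset_conj {Y : Type*} [Group Y] [Finite Y] (hZ : center Y = ⊥) {p : ℕ} [hp : Fact p.Prime]
    (hp2 : p ≠ 2) (hcyc : ∀ P : Sylow p Y, IsCyclic ↥(P : Subgroup Y)) {x φ : MulAut Y} (hx : orderOf x = p)
    (hφ : orderOf φ = p) {g : Y} (hg : x = MulAut.conj g * φ)
    (hfix : (Nat.card {y : Y // φ y = y}).factorization p < (Nat.card Y).factorization p) :
    ∃ β : MulAut Y, ∀ y, β (φ y) = x (β y) := by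
  have hfinA : Finite (MulAut Y) := Finite.of_injective (fun a : MulAut Y => (a : Y → Y)) DFunLike.coe_injective
  let I : Subgroup (MulAut Y) := (MulAut.conj : Y →* MulAut Y).range
  have hIn : I.Normal := by
    refine ⟨?_⟩
    rintro _ ⟨y, rfl⟩ a
    refine ⟨a y, ?_⟩
    ext1 w
    simp only [MulAut.conj_apply, mul_assoc, _root_.MulAut.mul_apply, _root_.MulAut.inv_apply, _root_.map_mul, _root_.MulEquiv.apply_symm_apply, _root_.map_inv]
  have hinj : Function.Injective (MulAut.conj : Y →* MulAut Y) := by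
    rw [injective_iff_map_eq_one]
    intro y hy
    have h1 : y ∈ center Y := by
      rw [mem_center_iff]
      intro w
      have h2 := congrArg (fun a : MulAut Y => a w) hy
      have h3 : y * w * y⁻¹ = w := h2
      exact (mul_inv_eq_iff_eq_mul.1 h3).symm
    rwa [hZ, mem_bot] at h1
  let e : Y ≃* ↥I := MonoidHom.ofInjective hinj
  have hcard : Nat.card ↥I = Nat.card Y := (Nat.card_congr e.toEquiv).symm
  have hcycI : ∀ P : Sylow p ↥I, IsCyclic ↥(P : Subgroup ↥I) := by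
    intro P
    have h1 := hcyc (P.comapOfInjective e.toMonoidHom e.injective (by
      intro y _
      exact ⟨e.symm y, e.apply_symm_apply y⟩))
    have h2 : ((P.comapOfInjective e.toMonoidHom e.injective (by
      intro y _
      exact ⟨e.symm y, e.apply_symm_apply y⟩) : Sylow p Y) : Subgroup Y) = (P : Subgroup ↥I).comap e.toMonoidHom := rfl
    rw [h2] at h1
    have h3 : ((P : Subgroup ↥I).comap e.toMonoidHom).map e.toMonoidHom = (P : Subgroup ↥I) :=
      Subgroup.map_comap_eq_self (fun y _ => ⟨e.symm y, e.apply_symm_apply y⟩)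
    have h4 : IsCyclic ↥(((P : Subgroup ↥I).comap e.toMonoidHom).map e.toMonoidHom) :=
      isCyclic_of_surjective (e.subgroupMap ((P : Subgroup ↥I).comap e.toMonoidHom))
        (e.subgroupMap ((P : Subgroup ↥I).comap e.toMonoidHom)).surjective
    rwa [h3] at h4
  have hfixI : (Nat.card ↥(I ⊓ centralizer ({φ} : Set (MulAut Y)) : Subgroup (MulAut Y))).factorization p <
      (Nat.card ↥I).factorization p := by
    rw [hcard]
    have h1 : Nat.card ↥(I ⊓ centralizer ({φ} : Set (MulAut Y)) : Subgroup (MulAut Y)) =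
        Nat.card {y : Y // φ y = y} := by
      symm
      refine Nat.card_congr (Equiv.ofBijective (fun y : {y : Y // φ y = y} =>
        (⟨MulAut.conj y.1, ⟨y.1, rfl⟩, ?_⟩ : ↥(I ⊓ centralizer ({φ} : Set (MulAut Y)) : Subgroup (MulAut Y)))) ⟨?_, ?_⟩)
      · refine mem_centralizer_singleton_iff.2 ?_
        ext1 w
        show y.1 * φ w * y.1⁻¹ = φ (y.1 * w * y.1⁻¹)
        rw [map_mul, map_mul, map_inv, y.2]
      · intro y z hyz
        exact Subtype.ext (hinj (congrArg Subtype.val hyz))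
      · rintro ⟨_, ⟨y, rfl⟩, hy⟩
        have h2 := mem_centralizer_singleton_iff.1 hy
        refine ⟨⟨y, ?_⟩, rfl⟩
        apply hinj
        ext1 w
        have h3 := congrArg (fun a : MulAut Y => a (φ⁻¹ w)) h2
        have h4 : φ (φ⁻¹ w) = w := MulAut.apply_inv_self Y φ w
        have h5 : y * φ (φ⁻¹ w) * y⁻¹ = φ (y * (φ⁻¹ w) * y⁻¹) := h3
        rw [map_mul, map_mul, map_inv, h4] at h5
        exact h5.symm
    rw [h1]
    exact hfix
  obtain ⟨β, hβ⟩ := conj_of_coset hp2 I hcycI hx hφ ⟨g, by rw [hg]; group⟩ hfixI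
  refine ⟨β⁻¹, fun y => ?_⟩
  have h2 : β⁻¹ * φ = x * β⁻¹ := by rw [← hβ]; group
  exact congrArg (fun a : MulAut Y => a y) h2

/-- the conclusion of `FieldFix` for one automorphism -/
def FF (p : ℕ) (g : ℕ → Grp) (q : ℕ) {Y : Type*} [Group Y] (x : MulAut Y) : Prop :=
  ∃ (q₀ : ℕ) (N : Subgroup Y), q = q₀ ^ p ∧ (∀ y ∈ N, x y = y) ∧
    (∀ y, x y = y → y ∈ normalizer (N : Set Y)) ∧ IsSimpleGroup ↥N ∧ (¬ IsMulCommutative ↥N) ∧
    (∀ y, x y = y → y ∈ centralizer (N : Set Y) → y = 1) ∧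
    (Real (g q₀) ↥N ∨ _root_.Cfsg.Agent.H975.FieldDef.Small (g q₀) (Nat.card ↥N))

theorem FF.congr {p : ℕ} {gr : ℕ → Grp} {q : ℕ} {Y Z : Type*} [Group Y] [Group Z] {x : MulAut Y} {z : MulAut Z}
    (e : Y ≃* Z) (h : ∀ y, e (x y) = z (e y)) (hx : FF p gr q x)
    (hR : ∀ (q₀ : ℕ) (A : Subgroup Y) (B : Subgroup Z), Nonempty (↥A ≃* ↥B) → Real (gr q₀) ↥A → Real (gr q₀) ↥B) :
    FF p gr q z := by
  obtain ⟨q₀, N, h0, h1, h2, h3, h4, h6, h5⟩ := hx
  have hfix : ∀ w : Z, z w = w → x (e.symm w) = e.symm w := by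
    intro w hw
    apply e.injective
    rw [h, e.apply_symm_apply, hw]
  have eN : ↥N ≃* ↥(N.map e.toMonoidHom) := N.equivMapOfInjective _ e.injective
  have hmem : ∀ {w : Z}, w ∈ N.map e.toMonoidHom ↔ e.symm w ∈ N := by
    intro w
    constructor
    · rintro ⟨y, hy, rfl⟩
      have : e.symm (e.toMonoidHom y) = y := e.symm_apply_apply y
      rw [this]
      exact hy
    · intro hw
      exact ⟨e.symm w, hw, e.apply_symm_apply w⟩
  refine ⟨q₀, N.map e.toMonoidHom, h0, ?_, ?_, ?_, ?_, ?_, ?_⟩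
  · rintro _ ⟨y, hy, rfl⟩
    show z (e y) = e y
    rw [← h, h1 y hy]
  · intro w hw
    have h9 := h2 _ (hfix w hw)
    rw [Subgroup.mem_normalizer_iff] at h9 ⊢
    intro v
    show v ∈ N.map e.toMonoidHom ↔ w * v * w⁻¹ ∈ N.map e.toMonoidHom
    rw [hmem, hmem, map_mul, map_mul, map_inv]
    exact h9 (e.symm v)
  · exact (MulEquiv.isSimpleGroup_congr eN).1 h3
  · intro hc
    apply h4
    exact ⟨⟨fun a b => by
      apply eN.injective
      rw [map_mul, map_mul]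
      exact hc.is_comm.comm _ _⟩⟩
  · intro w hw hwc
    have h9 : e.symm w = 1 := by
      refine h6 _ (hfix w hw) ?_
      rw [mem_centralizer_iff] at hwc ⊢
      intro n hn
      have h10 := hwc (e n) ⟨n, hn, rfl⟩
      apply e.injective
      rw [map_mul, map_mul, e.apply_symm_apply]
      exact h10
    have h11 := congrArg e h9
    rwa [e.apply_symm_apply, map_one] at h11
  · rcases h5 with h5 | h5
    · exact Or.inl (hR q₀ _ _ ⟨eN⟩ h5)
    · rw [← Nat.card_congr eN.toEquiv]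
      exact Or.inr h5

/-- transport of `FieldFix` -/
theorem fieldFix_congr {p : ℕ} {gr : ℕ → Grp} {q : ℕ} {Y Z : Type*} [Group Y] [Group Z] [Finite Y] [Finite Z]
    [Fact p.Prime] (e : Y ≃* Z) (h : FieldFix p gr q Y)
    (hR : ∀ (q₀ : ℕ) (A : Subgroup Y) (B : Subgroup Z), Nonempty (↥A ≃* ↥B) → Real (gr q₀) ↥A → Real (gr q₀) ↥B) :
    FieldFix p gr q Z := by
  intro z hz hzi hpZ hcyc
  let x : MulAut Y := MulAut.congr e.symm z
  have hx : orderOf x = p := by
    rw [← hz]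
    exact orderOf_injective (MulAut.congr e.symm).toMonoidHom (MulAut.congr e.symm).injective z
  have hxz : ∀ y, e (x y) = z (e y) := by
    intro y
    show e (e.symm (z (e.symm.symm y))) = _
    rw [e.apply_symm_apply]
    rfl
  have hgood : FF p gr q x := by
    refine h x hx ?_ ?_ ?_
    · rintro ⟨g, hg⟩
      apply hzi
      refine ⟨e g, ?_⟩
      ext1 w
      have h1 := hxz (e.symm w)
      rw [hg, e.apply_symm_apply] at h1
      rw [← h1]
      simp only [MulAut.conj_apply, _root_.map_mul, _root_.MulEquiv.apply_symm_apply, _root_.map_inv]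
    · rw [Nat.card_congr e.toEquiv]
      exact hpZ
    · intro P
      have h1 := hcyc (P.comapOfInjective e.symm.toMonoidHom e.symm.injective (by
        intro y _
        exact ⟨e y, e.symm_apply_apply y⟩))
      have h2 : ((P.comapOfInjective e.symm.toMonoidHom e.symm.injective (by
        intro y _
        exact ⟨e y, e.symm_apply_apply y⟩) : Sylow p Z) : Subgroup Z) =
          (P : Subgroup Y).comap e.symm.toMonoidHom := rfl
      rw [h2] at h1
      have h3 : ((P : Subgroup Y).comap e.symm.toMonoidHom).map e.symm.toMonoidHom = (P : Subgroup Y) :=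
        Subgroup.map_comap_eq_self (fun y _ => ⟨e y, e.symm_apply_apply y⟩)
      have h4 : IsCyclic ↥(((P : Subgroup Y).comap e.symm.toMonoidHom).map e.symm.toMonoidHom) :=
        isCyclic_of_surjective (e.symm.subgroupMap ((P : Subgroup Y).comap e.symm.toMonoidHom))
          (e.symm.subgroupMap ((P : Subgroup Y).comap e.symm.toMonoidHom)).surjective
      rwa [h3] at h4
  exact hgood.congr e hxz hR

/-- `FF` when the fixed points are `R` and `N₀` is a normal simple subgroup of `R` -/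
theorem ff_of_normal {Y R : Type*} [Group Y] [Finite Y] [Group R] [Finite R] {p : ℕ} {gr : ℕ → Grp} {q q₀ : ℕ}
    {φ : MulAut Y} (f : R →* Y) (hf : Function.Injective f) (hfix : ∀ y, φ y = y ↔ y ∈ f.range) (N₀ : Subgroup R)
    [hn : N₀.Normal] (hs₀ : IsSimpleGroup ↥N₀) (hN : ¬ IsMulCommutative ↥N₀)
    (hC : ∀ r : R, r ∈ centralizer (N₀ : Set R) → r = 1) (hq : q = q₀ ^ p)
    (hR : ∀ B : Subgroup Y, Nonempty (↥N₀ ≃* ↥B) → Real (gr q₀) ↥B ∨ _root_.Cfsg.Agent.H975.FieldDef.Small (gr q₀) (Nat.card ↥B)) : FF p gr q φ := by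
  let e₀ : ↥N₀ ≃* ↥(N₀.map f) := N₀.equivMapOfInjective f hf
  refine ⟨q₀, N₀.map f, hq, ?_, ?_, ?_, ?_, ?_, ?_⟩
  · rintro _ ⟨r, -, rfl⟩
    exact (hfix _).2 ⟨r, rfl⟩
  · intro y hy
    obtain ⟨r, rfl⟩ := (hfix y).1 hy
    rw [Subgroup.mem_normalizer_iff]
    intro v
    constructor
    · rintro ⟨n, hn', rfl⟩
      exact ⟨r * n * r⁻¹, hn.conj_mem _ hn' r, by simp only [_root_.map_mul, _root_.map_inv]⟩
    · rintro ⟨n, hn', hv⟩
      refine ⟨r⁻¹ * n * r, ?_, ?_⟩
      · have := hn.conj_mem _ hn' r⁻¹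
        rwa [inv_inv] at this
      · rw [map_mul, map_mul, map_inv, hv]
        group
  · exact (MulEquiv.isSimpleGroup_congr e₀).1 hs₀
  · intro hcm
    apply hN
    exact ⟨⟨fun a b => by
      apply e₀.injective
      rw [map_mul, map_mul]
      exact hcm.is_comm.comm _ _⟩⟩
  · intro y hy hyc
    obtain ⟨r, rfl⟩ := (hfix y).1 hy
    have h1 : r ∈ centralizer (N₀ : Set R) := by
      rw [mem_centralizer_iff]
      intro w hw
      apply hf
      rw [map_mul, map_mul]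
      exact (mem_centralizer_iff.1 hyc) (f w) ⟨w, hw, rfl⟩
    rw [hC r h1, map_one]
  · exact hR _ ⟨e₀⟩

/-- `FF` when the fixed points are a simple group -/
theorem ff_of_range {Y R : Type*} [Group Y] [Finite Y] [Group R] [Finite R] (hs₀ : IsSimpleGroup R)
    (hN : ¬ IsMulCommutative R) {p : ℕ} {gr : ℕ → Grp} {q q₀ : ℕ}
    {φ : MulAut Y} (f : R →* Y) (hf : Function.Injective f) (hfix : ∀ y, φ y = y ↔ y ∈ f.range) (hq : q = q₀ ^ p)
    (hR : ∀ B : Subgroup Y, Nonempty (R ≃* ↥B) → Real (gr q₀) ↥B) : FF p gr q φ := by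
  refine ff_of_normal f hf hfix (⊤ : Subgroup R) ((MulEquiv.isSimpleGroup_congr Subgroup.topEquiv.symm).1 hs₀) ?_ ?_ hq
    (fun B hB => Or.inl (hR B (hB.map fun e => Subgroup.topEquiv.symm.trans e)))
  · intro hcm
    apply hN
    exact ⟨⟨fun a b => by
      apply Subgroup.topEquiv.symm.injective
      rw [map_mul, map_mul]
      exact hcm.is_comm.comm _ _⟩⟩
  · intro r hr
    have h1 : r ∈ center R := by
      rw [mem_center_iff]
      intro w
      exact (mem_centralizer_iff.1 hr) w (Subgroup.mem_top w)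
    rwa [center_eq_bot hN, mem_bot] at h1

/-! ### Suzuki groups -/

section Sz

open Cfsg.Agent.LieRecognition.SzMatrix Cfsg.Agent.H967.CopSz Cfsg.Agent.H967.CopFix

variable {F : Type} [Field F] [Fintype F] {m : ℕ}

theorem fieldFix_sz' (hm : 1 ≤ m) (hF : Fintype.card F = 2 ^ (2 * m + 1)) {p : ℕ} [hp : Fact p.Prime] (hp2 : p ≠ 2)
    (h5 : ¬ (p = 5 ∧ m = 2)) : FieldFix p .sz (2 ^ (2 * m + 1)) ↥(Cfsg.Lie.Sz F (2 ^ (m + 1))) := by
  have h2p := two_prime
  have hcF : CharP F 2 := charP_of_card Nat.prime_two hF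
  have hs : IsSimpleGroup ↥(Cfsg.Lie.Sz F (2 ^ (m + 1))) := Cfsg.Agent.S1162.result hm hF
  have hcard := (Cfsg.Agent.S1163.result hm hF).1
  have hq2 : 2 ≤ 2 ^ (2 * m + 1) := Nat.le_self_pow (by omega) 2
  have hna : ¬ IsMulCommutative ↥(Cfsg.Lie.Sz F (2 ^ (m + 1))) :=
    not_comm_of_card hcard (by nlinarith only [hq2, Nat.sub_pos_of_lt hq2]) (by nlinarith only [hq2])
  intro x hx hxi hpY hcyc
  obtain ⟨σ, hσ, hσ', g, hg⟩ := exists_field (stab_sz hF) (p := 2) (by omega) hF (S2126.result hm hF)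
    (fun ψ => by
      obtain ⟨g, σ, h⟩ := Cfsg.Agent.H70.SzAutThm.exists_conj_field hm hF ψ
      exact ⟨g, σ, h⟩) hp.out hx hxi
  have hE := card_Fx σ
  rw [hσ, Nat.card_eq_fintype_card, hF] at hE
  obtain ⟨m₀, j, h1, h2⟩ := exists_odd_exp Nat.prime_two hE
  have h3 : 2 * m + 1 = (2 * m₀ + 1) * p := by
    rw [h1, ← pow_mul] at hE
    exact Nat.pow_right_injective (le_refl 2) hE
  have hfinE : Fintype ↥(Fx σ) := Fintype.ofFinite _
  have hE' : Fintype.card ↥(Fx σ) = 2 ^ (2 * m₀ + 1) := by rw [← Nat.card_eq_fintype_card, h1]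
  have hp3 : 3 ≤ p := by
    have := hp.out.two_le
    (clear * - hp2 this; omega)
  have hpq : ∀ n : ℕ, ¬ p ∣ 2 ^ n := fun n h =>
    hp2 ((Nat.prime_dvd_prime_iff_eq hp.out Nat.prime_two).1 (hp.out.dvd_of_dvd_pow h))
  have hqq : 2 ^ (2 * m + 1) = (2 ^ (2 * m₀ + 1)) ^ p := by rw [h3, pow_mul]
  have hm₀ : 1 ≤ m₀ := by
    by_contra h0
    have h0' : m₀ = 0 := by omega
    rw [h0', mul_zero, zero_add, one_mul] at h3
    have h4 : ((Nat.card ↥(Cfsg.Lie.Sz F (2 ^ (m + 1))) : ℕ) : ZMod p) = 0 := (ZMod.natCast_eq_zero_iff _ _).2 hpY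
    rw [hcard, h3, Nat.cast_mul, Nat.cast_mul, Nat.cast_sub (Nat.one_le_two_pow), Nat.cast_add] at h4
    simp only [Nat.cast_pow, Nat.cast_ofNat, Nat.cast_one, ZMod.pow_card] at h4
    have h6 : ((20 : ℕ) : ZMod p) = 0 := by
      push_cast
      rw [← h4]
      norm_num
    have h7 : p ∣ 20 := (ZMod.natCast_eq_zero_iff _ _).1 h6
    have h8 : p = 5 := by
      have h9 : p ∣ 2 ^ 2 * 5 := h7
      rcases hp.out.dvd_mul.1 h9 with h10 | h10
      · exact absurd h10 (hpq 2)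
      · exact (Nat.prime_dvd_prime_iff_eq hp.out Nat.prime_five).1 h10
    exact h5 ⟨h8, by omega⟩
  obtain ⟨f, hf, hfix⟩ := sz_fixed hF σ h1 h2
  have hs₀ : IsSimpleGroup ↥(Cfsg.Lie.Sz ↥(Fx σ) (2 ^ (m₀ + 1))) := Cfsg.Agent.S1162.result hm₀ hE'
  have hcard₀ := (Cfsg.Agent.S1163.result hm₀ hE').1
  have hr2 : 2 ≤ 2 ^ (2 * m₀ + 1) := Nat.le_self_pow (by omega) 2
  have hna₀ : ¬ IsMulCommutative ↥(Cfsg.Lie.Sz ↥(Fx σ) (2 ^ (m₀ + 1))) :=
    not_comm_of_card hcard₀ (by nlinarith only [hr2, Nat.sub_pos_of_lt hr2]) (by nlinarith only [hr2])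
  have hlt : (Nat.card ↥(Cfsg.Lie.Sz ↥(Fx σ) (2 ^ (m₀ + 1)))).factorization p <
      (Nat.card ↥(Cfsg.Lie.Sz F (2 ^ (m + 1)))).factorization p := by
    have hA := fact_pow_sub hp.out hp2 hr2
    have hB := fact_pow_add hp.out hp2 (a := (2 ^ (2 * m₀ + 1)) ^ 2) (Nat.one_le_pow _ _ (by positivity))
    have hB' : ((2 ^ (2 * m₀ + 1)) ^ 2) ^ p = (2 ^ (2 * m + 1)) ^ 2 := by
      rw [hqq]
      generalize 2 ^ (2 * m₀ + 1) = r
      rw [← pow_mul, ← pow_mul, mul_comm 2 p]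
    rw [hB'] at hB
    rw [← hqq] at hA
    rw [hcard] at hpY
    rw [hcard, hcard₀]
    refine fact_mul_lt hp.out (by positivity) (by positivity) (by omega) (by omega) (by positivity) (by positivity)
      (by rw [← pow_mul]; exact hpq _) (by rw [← pow_mul]; exact hpq _) hA hB hpY
  have hfixc : (Nat.card {y : ↥(Cfsg.Lie.Sz F (2 ^ (m + 1))) // fieldAut (stab_sz hF) σ y = y}).factorization p <
      (Nat.card ↥(Cfsg.Lie.Sz F (2 ^ (m + 1)))).factorization p := by
    rw [Nat.card_congr (Equiv.subtypeEquivRight hfix)]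
    have h9 : Nat.card ↥f.range = Nat.card ↥(Cfsg.Lie.Sz ↥(Fx σ) (2 ^ (m₀ + 1))) :=
      (Nat.card_congr (MonoidHom.ofInjective hf).toEquiv).symm
    exact lt_of_eq_of_lt (congrArg (fun n => n.factorization p) h9) hlt
  obtain ⟨β, hβ⟩ := coset_conj (center_eq_bot hna) hp2 hcyc hx hσ' hg hfixc
  have hff : FF p .sz (2 ^ (2 * m + 1)) (fieldAut (stab_sz hF) σ) := by
    refine ff_of_range hs₀ hna₀ f hf hfix hqq ?_
    rintro B ⟨e⟩
    exact ⟨↥(Fx σ), inferInstance, hfinE, m₀, hm₀, hE', rfl, ⟨e.symm⟩⟩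
  refine hff.congr β hβ ?_
  rintro r A B ⟨e⟩ ⟨F', i1, i2, k, hk, hF', hr, ⟨e'⟩⟩
  exact ⟨F', i1, i2, k, hk, hF', hr, ⟨e.symm.trans e'⟩⟩

/-- **Outer automorphisms of odd prime order of the Suzuki groups**, interface `FieldFix` -/
theorem fieldFix_sz {Y : Type*} [Group Y] {q : ℕ} (h : Real (.sz q) Y) {p : ℕ} [hp : Fact p.Prime] (hp2 : p ≠ 2)
    (h5 : ¬ (p = 5 ∧ q = 32)) : FieldFix p .sz q Y := by
  obtain ⟨F, i1, i2, m, hm, hF, hq, ⟨e⟩⟩ := h
  have hfX : Finite Y := Finite.of_equiv _ e.symm.toEquiv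
  subst hq
  refine fieldFix_congr e.symm (fieldFix_sz' hm hF hp2 ?_) ?_
  · rintro ⟨h1, h2⟩
    subst h2
    exact h5 ⟨h1, by norm_num⟩
  · rintro r A B ⟨e⟩ ⟨F', i1, i2, k, hk, hF', hr, ⟨e'⟩⟩
    exact ⟨F', i1, i2, k, hk, hF', hr, ⟨e.symm.trans e'⟩⟩

end Sz

/-! ### Small Ree groups -/

section Ree

open Cfsg.Lie Cfsg.Agent.ChevalleyStructure Cfsg.Agent.H967.CopSz Cfsg.Agent.H967.CopFix

variable {K : Type} [Field K] [Fintype K] {m : ℕ}

theorem fieldFix_ree' (hm : 1 ≤ m) (hK : Fintype.card K = 3 ^ (2 * m + 1)) {p : ℕ} [hp : Fact p.Prime] (hp2 : p ≠ 2)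
    (hp3 : p ≠ 3) : FieldFix p .ree (3 ^ (2 * m + 1)) ↥(twistedG2 K (3 ^ m)) := by
  have h3p := three_prime
  have hcF : CharP K 3 := charP_of_card Nat.prime_three hK
  have hs : IsSimpleGroup ↥(twistedG2 K (3 ^ m)) := (Cfsg.Agent.S1073.result hm hK).1
  have hcard := Cfsg.Agent.S1069.result hK
  have hq3 : 3 ≤ 3 ^ (2 * m + 1) := Nat.le_self_pow (by omega) 3
  have hna : ¬ IsMulCommutative ↥(twistedG2 K (3 ^ m)) := (Cfsg.Agent.S1073.result hm hK).2
  intro x hx hxi hpY hcyc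
  obtain ⟨σ, hσ, hσ', g, hg⟩ := exists_field (stab_g2 (K := K) (3 ^ m)) (p := 3) (by omega) hK (S2127.result hm hK)
    (fun ψ => by
      obtain ⟨g, σ, h⟩ := Cfsg.Agent.H71.FldAut.ree_aut hm hK ψ
      exact ⟨g, σ, h⟩) hp.out hx hxi
  have hE := card_Fx σ
  rw [hσ, Nat.card_eq_fintype_card, hK] at hE
  obtain ⟨m₀, j, h1, h2⟩ := exists_odd_exp Nat.prime_three hE
  have h3 : 2 * m + 1 = (2 * m₀ + 1) * p := by
    rw [h1, ← pow_mul] at hE
    exact Nat.pow_right_injective (by norm_num) hE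
  have hfinE : Fintype ↥(Fx σ) := Fintype.ofFinite _
  have hE' : Fintype.card ↥(Fx σ) = 3 ^ (2 * m₀ + 1) := by rw [← Nat.card_eq_fintype_card, h1]
  have hpq : ∀ n : ℕ, ¬ p ∣ 3 ^ n := fun n h =>
    hp3 ((Nat.prime_dvd_prime_iff_eq hp.out Nat.prime_three).1 (hp.out.dvd_of_dvd_pow h))
  have hqq : 3 ^ (2 * m + 1) = (3 ^ (2 * m₀ + 1)) ^ p := by rw [h3, pow_mul]
  obtain ⟨f, hf, hfix⟩ := ree_fixed hK σ h1 h2
  have hcard₀ := Cfsg.Agent.S1069.result hE'
  have hr3 : 3 ≤ 3 ^ (2 * m₀ + 1) := Nat.le_self_pow (by omega) 3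
  have hlt : (Nat.card ↥(twistedG2 ↥(Fx σ) (3 ^ m₀))).factorization p <
      (Nat.card ↥(twistedG2 K (3 ^ m))).factorization p := by
    have hA := fact_pow_sub hp.out hp2 (a := 3 ^ (2 * m₀ + 1)) (by omega)
    have hB := fact_pow_add hp.out hp2 (a := (3 ^ (2 * m₀ + 1)) ^ 3) (Nat.one_le_pow _ _ (by positivity))
    have hB' : ((3 ^ (2 * m₀ + 1)) ^ 3) ^ p = (3 ^ (2 * m + 1)) ^ 3 := by
      rw [hqq]
      generalize 3 ^ (2 * m₀ + 1) = r
      rw [← pow_mul, ← pow_mul, mul_comm 3 p]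
    rw [hB'] at hB
    rw [← hqq] at hA
    rw [hcard] at hpY
    rw [hcard, hcard₀]
    refine fact_mul_lt hp.out (by positivity) (by positivity) (by omega) (by omega) (by positivity) (by positivity)
      (by rw [← pow_mul]; exact hpq _) (by rw [← pow_mul]; exact hpq _) hA hB hpY
  have hfixc : (Nat.card {y : ↥(twistedG2 K (3 ^ m)) // fieldAut (stab_g2 (K := K) (3 ^ m)) σ y = y}).factorization p <
      (Nat.card ↥(twistedG2 K (3 ^ m))).factorization p := by
    rw [Nat.card_congr (Equiv.subtypeEquivRight hfix)]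
    have h9 : Nat.card ↥f.range = Nat.card ↥(twistedG2 ↥(Fx σ) (3 ^ m₀)) :=
      (Nat.card_congr (MonoidHom.ofInjective hf).toEquiv).symm
    exact lt_of_eq_of_lt (congrArg (fun n => n.factorization p) h9) hlt
  obtain ⟨β, hβ⟩ := coset_conj (center_eq_bot hna) hp2 hcyc hx hσ' hg hfixc
  have hff : FF p .ree (3 ^ (2 * m + 1)) (fieldAut (stab_g2 (K := K) (3 ^ m)) σ) := by
    rcases Nat.eq_zero_or_pos m₀ with h0 | h0
    · subst h0
      obtain ⟨c1, s1, z1⟩ := ree3_facts (E := ↥(Fx σ)) (by rw [hE']; norm_num) (d := 3 ^ 0) (pow_zero 3)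
      have hna₀ : ¬ IsMulCommutative ↥(commutator ↥(twistedG2 ↥(Fx σ) (3 ^ 0))) :=
        not_comm_of_card (a := 2) (b := 252) (by rw [c1]) (by norm_num) (by norm_num)
      refine ff_of_normal f hf hfix (_root_.commutator ↥(twistedG2 ↥(Fx σ) (3 ^ 0))) s1 hna₀ z1 hqq ?_
      rintro B ⟨e⟩
      refine Or.inr (Or.inr (Or.inr (Or.inl ⟨by norm_num, ?_⟩)))
      rw [← Nat.card_congr e.toEquiv, c1]
    · have hs₀ : IsSimpleGroup ↥(twistedG2 ↥(Fx σ) (3 ^ m₀)) := (Cfsg.Agent.S1073.result h0 hE').1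
      have hna₀ : ¬ IsMulCommutative ↥(twistedG2 ↥(Fx σ) (3 ^ m₀)) := (Cfsg.Agent.S1073.result h0 hE').2
      refine ff_of_range hs₀ hna₀ f hf hfix hqq ?_
      rintro B ⟨e⟩
      exact ⟨↥(Fx σ), inferInstance, hfinE, m₀, h0, hE', rfl, ⟨e.symm⟩⟩
  refine hff.congr β hβ ?_
  rintro r A B ⟨e⟩ ⟨F', i1, i2, k, hk, hF', hr, ⟨e'⟩⟩
  exact ⟨F', i1, i2, k, hk, hF', hr, ⟨e.symm.trans e'⟩⟩

/-- **Outer automorphisms of prime order `p > 3` of the small Ree groups**, interface `FieldFix` -/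
theorem fieldFix_ree {Y : Type*} [Group Y] {q : ℕ} (h : Real (.ree q) Y) {p : ℕ} [hp : Fact p.Prime] (hp2 : p ≠ 2)
    (hp3 : p ≠ 3) : FieldFix p .ree q Y := by
  obtain ⟨F, i1, i2, m, hm, hF, hq, ⟨e⟩⟩ := h
  have hfX : Finite Y := Finite.of_equiv _ e.symm.toEquiv
  subst hq
  refine fieldFix_congr e.symm (fieldFix_ree' hm hF hp2 hp3) ?_
  rintro r A B ⟨e⟩ ⟨F', i1, i2, k, hk, hF', hr, ⟨e'⟩⟩
  exact ⟨F', i1, i2, k, hk, hF', hr, ⟨e.symm.trans e'⟩⟩

end Ree

end Cfsg.Agent.H270.StrP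
end
end
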